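import Groth.Agent.CdOneMap.Main
import Mathlib

/-! All degrees of the graded module map. -/

set_option autoImplicit false
set_option maxHeartbeats 1000000

noncomputable section

namespace Groth.Agent.CdOneMap

universe u

open TensorProduct MvPolynomial

variable {A B N : Type u} [CommRing A] [CommRing B] [Algebra A B] [AddCommGroup N] [Module B N] [Module A N]
  [IsScalarTower A B N] (I : Ideal A)

theorem ext_gen {m : ℕ} {P : Type u} [AddCommGroup P] [Module B P] (Ψ Ψ' : ↥(Sp (B := B) (N := N) I m) →ₗ[B] P)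
    (h : ∀ (g : A) (hg : g ∈ I ^ m) (x : N),
      Ψ ⟨algebraMap A B g • x, gen_mem I hg x⟩ = Ψ' ⟨algebraMap A B g • x, gen_mem I hg x⟩) : Ψ = Ψ' := by
  refine LinearMap.ext fun y => ?_
  obtain ⟨y, hy⟩ := y
  have : ∀ y (hy : y ∈ (Sp I m : Submodule B N)), Ψ ⟨y, hy⟩ = Ψ' ⟨y, hy⟩ := by
    intro y hy
    unfold Sp at hy
    induction hy using Submodule.span_induction with
    | zero => exact (map_zero Ψ).trans (map_zero Ψ').symm
    | add a b ha hb iha ihb =>
      have e : (⟨a + b, add_mem ha hb⟩ : ↥(Sp (B := B) (N := N) I m)) = ⟨a, ha⟩ + ⟨b, hb⟩ := rfl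
      exact (congrArg Ψ e).trans ((map_add Ψ _ _).trans ((congrArg₂ (· + ·) iha ihb).trans
        ((map_add Ψ' _ _).symm.trans (congrArg Ψ' e).symm)))
    | smul r a ha iha =>
      have e : (⟨r • a, Submodule.smul_mem _ r ha⟩ : ↥(Sp (B := B) (N := N) I m)) = r • ⟨a, ha⟩ := rfl
      exact (congrArg Ψ e).trans ((map_smul Ψ _ _).trans ((congrArg (r • ·) iha).trans
        ((map_smul Ψ' _ _).symm.trans (congrArg Ψ' e).symm)))
    | mem a ha =>
      obtain ⟨g, hg, x, rfl⟩ := ha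
      exact h g hg x
  exact this y hy

variable [IsNoetherianRing A] [IsNoetherianRing B] [Module.Finite B N]

theorem main (r : ℕ) (f : Fin r → A) (c : ℕ) (φ : Fin r → (↥(I ^ c) →ₗ[A] A))
    (hφ : ∀ x : ↥(I ^ c), (x : A) = ∑ j, f j * φ j x) :
    ∃ c' : ℕ, ∃ hcc' : c ≤ c', ∀ Φ : ℕ → A → MvPolynomial (Fin r) A,
      (∀ n : ℕ, ∀ g ∈ I ^ (n * c'), ∀ h ∈ I ^ (n * c'), Φ n (g + h) = Φ n g + Φ n h) →
      (∀ n m : ℕ, ∀ g ∈ I ^ (n * c'), ∀ h ∈ I ^ (m * c'), Φ (n + m) (g * h) = Φ n g * Φ m h) →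
      (∀ a : A, Φ 0 a = MvPolynomial.C a) →
      (∀ (g : A) (hg : g ∈ I ^ c'), Φ 1 g =
        ∑ j, MvPolynomial.C (φ j ⟨g, Ideal.pow_le_pow_right hcc' hg⟩) * MvPolynomial.X j) →
      ∀ n : ℕ, ∃ Ψ : ↥(Sp (B := B) (N := N) I (n * c')) →ₗ[B] (MvPolynomial (Fin r) B ⊗[B] N),
        (∀ (g : A) (hg : g ∈ I ^ (n * c')) (x : N),
          Ψ ⟨algebraMap A B g • x, gen_mem I hg x⟩ = MvPolynomial.map (algebraMap A B) (Φ n g) ⊗ₜ[B] x) ∧
        (∀ y : ↥(Sp (B := B) (N := N) I (n * c')), TensorProduct.lift ((LinearMap.lsmul B N).comp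
          (MvPolynomial.aeval (fun j ↦ algebraMap A B (f j))).toLinearMap) (Ψ y) = (y : N)) ∧
        (∀ Ψ' : ↥(Sp (B := B) (N := N) I (n * c')) →ₗ[B] (MvPolynomial (Fin r) B ⊗[B] N),
          (∀ (g : A) (hg : g ∈ I ^ (n * c')) (x : N),
            Ψ' ⟨algebraMap A B g • x, gen_mem I hg x⟩ = MvPolynomial.map (algebraMap A B) (Φ n g) ⊗ₜ[B] x) → Ψ' = Ψ) := by
  obtain ⟨c', hcc', hstep⟩ := exists_step (B := B) (N := N) I c
  refine ⟨c', hcc', fun Φ hadd hmul h0 h1 => ?_⟩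
  choose Ψ1 hΨ1 using fun j => hstep (φ j)
  have hev : ∀ n : ℕ, ∀ g ∈ I ^ (n * c'), MvPolynomial.eval f (Φ n g) = g := by
    intro n
    induction n with
    | zero => intro g _; rw [h0, eval_C]
    | succ n ih =>
      intro g hg
      rw [Nat.succ_mul, add_comm, pow_add] at hg
      refine Submodule.mul_induction_on' (C := fun g _ => MvPolynomial.eval f (Φ (n + 1) g) = g) (fun h hh g' hg' => ?_)
        (fun y hy z hz hy' hz' => ?_) hg
      · rw [Nat.add_comm n 1, hmul 1 n h (by rwa [one_mul]) g' hg', map_mul, ih g' hg', h1 h hh, map_sum]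
        simp only [map_mul, eval_C, eval_X]
        rw [Finset.sum_congr rfl fun j _ => mul_comm _ (f j), ← hφ ⟨h, _⟩]
      · have e : I ^ ((n + 1) * c') = I ^ c' * I ^ (n * c') := by rw [Nat.succ_mul, add_comm, pow_add]
        rw [hadd (n + 1) y (e ▸ hy) z (e ▸ hz), map_add, hy', hz']
  have key : ∀ n : ℕ, ∃ Ψ : ↥(Sp (B := B) (N := N) I (n * c')) →ₗ[B] (MvPolynomial (Fin r) B ⊗[B] N),
      ∀ (g : A) (hg : g ∈ I ^ (n * c')) (x : N),
        Ψ ⟨algebraMap A B g • x, gen_mem I hg x⟩ = MvPolynomial.map (algebraMap A B) (Φ n g) ⊗ₜ[B] x := by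
    intro n
    induction n with
    | zero =>
      refine ⟨(TensorProduct.mk B (MvPolynomial (Fin r) B) N 1) ∘ₗ Submodule.subtype _, fun g hg x => ?_⟩
      rw [h0, map_C, MvPolynomial.C_eq_smul_one (a := algebraMap A B g), smul_tmul]
      rfl
    | succ n ih =>
      obtain ⟨Ψn, hΨn⟩ := ih
      have hsucc : I ^ ((n + 1) * c') = I ^ c' * I ^ (n * c') := by rw [Nat.succ_mul, add_comm, pow_add]
      have hle : (Sp I ((n + 1) * c') : Submodule B N) ≤ Sp I c' := by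
        refine Submodule.span_le.2 ?_
        rintro _ ⟨g, hg, x, rfl⟩
        exact gen_mem I (Ideal.mul_le_left (hsucc ▸ hg : g ∈ I ^ c' * I ^ (n * c'))) x
      have hin : ∀ j, ∀ y : ↥(Sp (B := B) (N := N) I ((n + 1) * c')),
          Ψ1 j (Submodule.inclusion hle y) ∈ (Sp I (n * c') : Submodule B N) := by
        intro j y
        refine (Submodule.Quotient.mk_eq_zero _).1 (LinearMap.congr_fun (ext_gen I
          ((Sp (B := B) (N := N) I (n * c')).mkQ ∘ₗ (Ψ1 j) ∘ₗ Submodule.inclusion hle) 0 fun g hg x => ?_) y)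
        refine (Submodule.Quotient.mk_eq_zero _).2 ?_
        have hgc : g ∈ I ^ c' := Ideal.mul_le_left (hsucc ▸ hg : g ∈ I ^ c' * I ^ (n * c'))
        show Ψ1 j ⟨algebraMap A B g • x, gen_mem I hgc x⟩ ∈ _
        rw [hΨ1 j g hgc x]
        refine gen_mem I ?_ x
        have key2 : ∀ (g : A), g ∈ I ^ c' * I ^ (n * c') → ∀ hgc : g ∈ I ^ c',
            φ j ⟨g, Ideal.pow_le_pow_right hcc' hgc⟩ ∈ I ^ (n * c') := by
          intro g hg
          refine Submodule.mul_induction_on' (C := fun g _ => ∀ hgc : g ∈ I ^ c',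
            φ j ⟨g, Ideal.pow_le_pow_right hcc' hgc⟩ ∈ I ^ (n * c')) (fun h hh g' hg' hgc => ?_)
            (fun y hy z hz hy' hz' hgc => ?_) hg
          · rw [show (⟨h * g', Ideal.pow_le_pow_right hcc' hgc⟩ : ↥(I ^ c)) = g' • ⟨h, Ideal.pow_le_pow_right hcc' hh⟩ from
              Subtype.ext (mul_comm h g'), map_smul, smul_eq_mul]
            exact Ideal.mul_mem_right _ _ hg'
          · have hy1 : y ∈ I ^ c' := Ideal.mul_le_left hy
            have hz1 : z ∈ I ^ c' := Ideal.mul_le_left hz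
            rw [show (⟨y + z, Ideal.pow_le_pow_right hcc' hgc⟩ : ↥(I ^ c)) =
              ⟨y, Ideal.pow_le_pow_right hcc' hy1⟩ + ⟨z, Ideal.pow_le_pow_right hcc' hz1⟩ from rfl, map_add]
            exact add_mem (hy' hy1) (hz' hz1)
        exact key2 g (hsucc ▸ hg) hgc
      let comp : Fin r → (↥(Sp (B := B) (N := N) I ((n + 1) * c')) →ₗ[B] ↥(Sp (B := B) (N := N) I (n * c'))) :=
        fun j => ((Ψ1 j).comp (Submodule.inclusion hle)).codRestrict _ (hin j)
      let mulX : Fin r → (MvPolynomial (Fin r) B ⊗[B] N →ₗ[B] MvPolynomial (Fin r) B ⊗[B] N) :=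
        fun j => (LinearMap.mulLeft B (MvPolynomial.X j : MvPolynomial (Fin r) B)).rTensor N
      refine ⟨∑ j, mulX j ∘ₗ Ψn ∘ₗ comp j, fun g hg x => ?_⟩
      let F : ∀ g : A, g ∈ I ^ ((n + 1) * c') → MvPolynomial (Fin r) B ⊗[B] N := fun g hg =>
        (∑ j, mulX j ∘ₗ Ψn ∘ₗ comp j) ⟨algebraMap A B g • x, gen_mem I hg x⟩
      show F g hg = _
      have hg0 : g ∈ I ^ c' * I ^ (n * c') := hsucc ▸ hg
      refine Submodule.mul_induction_on' (C := fun g _ => ∀ hg : g ∈ I ^ ((n + 1) * c'),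
        F g hg = MvPolynomial.map (algebraMap A B) (Φ (n + 1) g) ⊗ₜ[B] x) (fun h hh g' hg' hgg => ?_)
        (fun y hy z hz hy' hz' hyz => ?_) hg0 hg
      · rw [Nat.add_comm n 1, hmul 1 n h (by rwa [one_mul]) g' hg', h1 h hh, map_mul, map_sum, Finset.sum_mul, sum_tmul]
        show (∑ j, mulX j ∘ₗ Ψn ∘ₗ comp j) _ = _
        rw [LinearMap.sum_apply]
        refine Finset.sum_congr rfl fun j _ => ?_
        show mulX j (Ψn (comp j ⟨algebraMap A B (h * g') • x, _⟩)) = _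
        have hc : comp j ⟨algebraMap A B (h * g') • x, gen_mem I hgg x⟩ =
            algebraMap A B (φ j ⟨h, Ideal.pow_le_pow_right hcc' hh⟩) • ⟨algebraMap A B g' • x, gen_mem I hg' x⟩ := by
          refine Subtype.ext ?_
          show Ψ1 j ⟨algebraMap A B (h * g') • x, gen_mem I (Ideal.mul_le_left (Ideal.mul_mem_mul hh hg')) x⟩ = _
          rw [hΨ1 j _ (Ideal.mul_le_left (Ideal.mul_mem_mul hh hg')) x]
          show algebraMap A B (φ j _) • x = algebraMap A B _ • (algebraMap A B g' • x)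
          rw [smul_smul, ← map_mul]
          congr 2
          have e1 := map_smul (φ j) g' (⟨h, Ideal.pow_le_pow_right hcc' hh⟩ : ↥(I ^ c))
          rw [smul_eq_mul, mul_comm g'] at e1
          exact (congrArg (φ j) (Subtype.ext (mul_comm h g'))).trans e1
        rw [hc, map_smul, map_smul, hΨn g' hg' x]
        show _ • ((MvPolynomial.X j * MvPolynomial.map (algebraMap A B) (Φ n g')) ⊗ₜ[B] x) = _
        rw [smul_tmul', MvPolynomial.smul_eq_C_mul, map_mul, map_C, map_X, mul_assoc]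
      · have hy1 : y ∈ I ^ ((n + 1) * c') := hsucc ▸ hy
        have hz1 : z ∈ I ^ ((n + 1) * c') := hsucc ▸ hz
        rw [hadd (n + 1) y hy1 z hz1, map_add, add_tmul, ← hy' hy1, ← hz' hz1]
        show (∑ j, mulX j ∘ₗ Ψn ∘ₗ comp j) _ = _
        rw [← map_add]
        congr 1
        exact Subtype.ext (by rw [Submodule.coe_add]; show algebraMap A B (y + z) • x = _; rw [map_add, add_smul])
  intro n
  obtain ⟨Ψ, hΨ⟩ := key n
  refine ⟨Ψ, hΨ, fun y => ?_, fun Ψ' hΨ' => ext_gen I Ψ' Ψ fun g hg x => (hΨ' g hg x).trans (hΨ g hg x).symm⟩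
  refine LinearMap.congr_fun (ext_gen I (TensorProduct.lift ((LinearMap.lsmul B N).comp
    (MvPolynomial.aeval (fun j ↦ algebraMap A B (f j))).toLinearMap) ∘ₗ Ψ) (Submodule.subtype _) fun g hg x => ?_) y
  rw [LinearMap.comp_apply, hΨ g hg x, TensorProduct.lift.tmul]
  show (MvPolynomial.aeval (fun j ↦ algebraMap A B (f j))) (MvPolynomial.map (algebraMap A B) (Φ n g)) • x = algebraMap A B g • x
  congr 1
  rw [MvPolynomial.aeval_map_algebraMap, MvPolynomial.aeval_def]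
  conv_rhs => rw [← hev n g hg]
  exact (MvPolynomial.eval₂_comp (algebraMap A B) f (Φ n g)).symm

end Groth.Agent.CdOneMap
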