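import Mathlib

/-! The graded module map of a system of sections of `I^c → ⊕ A`, defined on high powers. -/

set_option autoImplicit false
set_option maxHeartbeats 1000000

noncomputable section

namespace Groth.Agent.CdOneMap

universe u

open TensorProduct

variable {A B N : Type u} [CommRing A] [CommRing B] [Algebra A B] [AddCommGroup N] [Module B N] [Module A N]
  [IsScalarTower A B N] (I : Ideal A) (c : ℕ)

/-- `x ⊗ g ↦ ψ g • x`. -/
def ev (ψ : ↥(I ^ c) →ₗ[A] A) : N ⊗[A] ↥(I ^ c) →ₗ[B] N :=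
  TensorProduct.AlgebraTensorModule.lift
    { toFun := fun x =>
        { toFun := fun g => ψ g • x
          map_add' := fun g h => by rw [map_add, add_smul]
          map_smul' := fun a g => by rw [map_smul, smul_eq_mul, mul_smul, RingHom.id_apply] }
      map_add' := fun x y => LinearMap.ext fun g => smul_add _ x y
      map_smul' := fun b x => LinearMap.ext fun g => smul_comm (ψ g) b x }

@[simp] theorem ev_tmul (ψ : ↥(I ^ c) →ₗ[A] A) (x : N) (g : ↥(I ^ c)) : ev (B := B) I c ψ (x ⊗ₜ g) = ψ g • x := rfl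

/-- the span of `I^m · N`. -/
def Sp (m : ℕ) : Submodule B N := Submodule.span B {y : N | ∃ g ∈ I ^ m, ∃ x : N, y = algebraMap A B g • x}

theorem gen_mem {m : ℕ} {g : A} (hg : g ∈ I ^ m) (x : N) : algebraMap A B g • x ∈ (Sp I m : Submodule B N) :=
  Submodule.subset_span ⟨g, hg, x, rfl⟩

theorem smul_kill {a : A} (ha : a ∈ I ^ c) (κ : N ⊗[A] ↥(I ^ c)) :
    algebraMap A B a • κ = ev (B := B) I c (I ^ c).subtype κ ⊗ₜ (⟨a, ha⟩ : ↥(I ^ c)) := by
  induction κ using TensorProduct.induction_on with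
  | zero => simp
  | add x y hx hy => rw [smul_add, hx, hy, map_add, add_tmul]
  | tmul x g =>
    rw [smul_tmul', algebraMap_smul, ev_tmul, smul_tmul, smul_tmul]
    congr 1
    exact Subtype.ext (show a * (g : A) = (g : A) * a from mul_comm _ _)

theorem mem_pow_smul_top {t : ℕ} (x : N) {g : A} (hg : g ∈ I ^ t * I ^ c) (hgc : g ∈ I ^ c) :
    x ⊗ₜ[A] (⟨g, hgc⟩ : ↥(I ^ c)) ∈
      ((I.map (algebraMap A B)) ^ t • ⊤ : Submodule B (N ⊗[A] ↥(I ^ c))) := by
  revert hgc
  induction hg using Submodule.mul_induction_on' with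
  | mem_mul_mem a ha b hb =>
    intro hab
    rw [show (⟨a * b, hab⟩ : ↥(I ^ c)) = a • ⟨b, hb⟩ from rfl, tmul_smul, ← algebraMap_smul B a]
    refine Submodule.smul_mem_smul ?_ trivial
    rw [← Ideal.map_pow]
    exact Ideal.mem_map_of_mem _ ha
  | add y hy z hz hy' hz' =>
    intro hyz
    have h1 : y ∈ I ^ c := (Ideal.mul_le_right (I := I ^ t) (J := I ^ c)) hy
    have h2 : z ∈ I ^ c := (Ideal.mul_le_right (I := I ^ t) (J := I ^ c)) hz
    rw [show (⟨y + z, hyz⟩ : ↥(I ^ c)) = ⟨y, h1⟩ + ⟨z, h2⟩ from rfl, tmul_add]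
    exact add_mem (hy' _) (hz' _)

theorem finite_tensor [IsNoetherianRing A] [Module.Finite B N] : Module.Finite B (N ⊗[A] ↥(I ^ c)) := by
  obtain ⟨s, hs⟩ := (Module.Finite.fg_top : (⊤ : Submodule B N).FG)
  haveI : Module.Finite A ↥(I ^ c) := Module.Finite.iff_fg.2 (IsNoetherian.noetherian _)
  obtain ⟨t, ht⟩ := (Module.Finite.fg_top : (⊤ : Submodule A ↥(I ^ c)).FG)
  classical
  refine ⟨⟨(s ×ˢ t).image fun p => p.1 ⊗ₜ[A] p.2, top_le_iff.1 fun z hz => ?_⟩⟩
  clear hz
  induction z using TensorProduct.induction_on with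
  | zero => exact zero_mem _
  | add x y hx hy => exact add_mem hx hy
  | tmul x g =>
    have hg : g ∈ Submodule.span A (t : Set ↥(I ^ c)) := ht ▸ trivial
    induction hg using Submodule.span_induction with
    | zero => rw [tmul_zero]; exact zero_mem _
    | add a b _ _ ha hb => rw [tmul_add]; exact add_mem ha hb
    | smul a b _ hb => rw [tmul_smul, ← algebraMap_smul B a]; exact Submodule.smul_mem _ _ hb
    | mem g hg =>
      have hx : x ∈ Submodule.span B (s : Set N) := hs ▸ trivial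
      induction hx using Submodule.span_induction with
      | zero => rw [zero_tmul]; exact zero_mem _
      | add a b _ _ ha hb => rw [add_tmul]; exact add_mem ha hb
      | smul a b _ hb => rw [← smul_tmul']; exact Submodule.smul_mem _ _ hb
      | mem x hx => exact Submodule.subset_span (Finset.mem_image.2 ⟨(x, g), Finset.mem_product.2 ⟨hx, hg⟩, rfl⟩)

/-- degree one. -/
theorem exists_step [IsNoetherianRing A] [IsNoetherianRing B] [Module.Finite B N] :
    ∃ (c' : ℕ) (hcc' : c ≤ c'), ∀ ψ : ↥(I ^ c) →ₗ[A] A, ∃ Ψ : ↥(Sp (B := B) (N := N) I c') →ₗ[B] N,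
      ∀ (g : A) (hg : g ∈ I ^ c') (x : N), Ψ ⟨algebraMap A B g • x, gen_mem I hg x⟩ =
        algebraMap A B (ψ ⟨g, Ideal.pow_le_pow_right hcc' hg⟩) • x := by
  haveI := finite_tensor (A := A) (B := B) (N := N) I c
  let J := I.map (algebraMap A B)
  let μ := ev (B := B) (N := N) I c (I ^ c).subtype
  obtain ⟨k, hk⟩ := Ideal.exists_pow_inf_eq_pow_smul J (LinearMap.ker μ)
  have hkill : J ^ c • LinearMap.ker μ = ⊥ := by
    refine eq_bot_iff.2 (Submodule.smul_le.2 fun b hb κ hκ => ?_)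
    rw [← Ideal.map_pow] at hb
    rw [Submodule.mem_bot]
    induction hb using Submodule.span_induction with
    | zero => exact zero_smul _ _
    | add x y _ _ hx hy => rw [add_smul, hx, hy, add_zero]
    | smul r x _ hx => rw [smul_eq_mul, mul_smul, hx, smul_zero]
    | mem x hx =>
      obtain ⟨a, ha, rfl⟩ := hx
      rw [smul_kill I c ha, LinearMap.mem_ker.1 hκ, zero_tmul]
  refine ⟨(k + c) + c, by omega, fun ψ => ?_⟩
  let W : Submodule B (N ⊗[A] ↥(I ^ c)) := J ^ (k + c) • ⊤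
  have hinj : Function.Injective (μ ∘ₗ W.subtype) := by
    rw [injective_iff_map_eq_zero]
    intro w hw
    have h1 : (w : N ⊗[A] ↥(I ^ c)) ∈ W ⊓ LinearMap.ker μ := ⟨w.2, LinearMap.mem_ker.2 hw⟩
    rw [show W ⊓ LinearMap.ker μ = J ^ (k + c - k) • (J ^ k • ⊤ ⊓ LinearMap.ker μ) from hk _ (by omega),
      Nat.add_sub_cancel_left] at h1
    refine Subtype.ext ((Submodule.mem_bot B).1 (hkill.le (Submodule.smul_mono le_rfl inf_le_right h1)))
  let e := LinearEquiv.ofInjective (μ ∘ₗ W.subtype) hinj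
  have hle : Sp (B := B) (N := N) I ((k + c) + c) ≤ LinearMap.range (μ ∘ₗ W.subtype) := by
    refine Submodule.span_le.2 ?_
    rintro _ ⟨g, hg, x, rfl⟩
    exact ⟨⟨_, mem_pow_smul_top I c x (pow_add I (k + c) c ▸ hg) (Ideal.pow_le_pow_right (by omega) hg)⟩,
      (algebraMap_smul B g x).symm⟩
  refine ⟨ev I c ψ ∘ₗ W.subtype ∘ₗ e.symm.toLinearMap ∘ₗ Submodule.inclusion hle, fun g hg x => ?_⟩
  let w : W := ⟨_, mem_pow_smul_top I c x (pow_add I (k + c) c ▸ hg) (Ideal.pow_le_pow_right (by omega) hg)⟩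
  have he : e.symm (Submodule.inclusion hle ⟨algebraMap A B g • x, gen_mem I hg x⟩) = w := by
    rw [LinearEquiv.symm_apply_eq]
    exact Subtype.ext (algebraMap_smul B g x)
  show ev I c ψ (e.symm (Submodule.inclusion hle ⟨algebraMap A B g • x, gen_mem I hg x⟩) : N ⊗[A] ↥(I ^ c)) = _
  rw [he, algebraMap_smul]
  rfl

end Groth.Agent.CdOneMap
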